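import Cfsg.Agent.H539.Lim.Defs

/-!
# Localization of higher limits (S5242, pieces A5 and A8 of the plan of helper539)
-/

set_option autoImplicit false

namespace Cfsg.Agent.H95.Lim

open MulAction Cfsg.Agent.H539.Lim

universe u v w

variable {G : Type u} [Group G] {Ω : Type v} [MulAction G Ω] {D : Type w} [AddCommGroup D]
  [DistribMulAction G D]

/-! ### Stabilizers and conjugates -/

theorem mem_st {k : ℕ} {x : Fin k → Ω} {g : G} : g ∈ st G x ↔ ∀ i, g • x i = x i := by
  rw [mem_stabilizer_iff, funext_iff]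
  rfl

theorem st_smul {k : ℕ} (g : G) (x : Fin k → Ω) : st G (g • x) = cj g (st G x) :=
  MulAction.stabilizer_smul_eq_stabilizer_map_conj g x

theorem mem_cj {g u : G} {P : Subgroup G} : u ∈ cj g P ↔ g⁻¹ * u * g ∈ P := by
  constructor
  · rintro ⟨w, hw, rfl⟩
    have e : g⁻¹ * (g * w * g⁻¹) * g = w := by group
    change g⁻¹ * (g * w * g⁻¹) * g ∈ P
    rw [e]
    exact hw
  · intro h
    refine ⟨g⁻¹ * u * g, h, ?_⟩
    change g * (g⁻¹ * u * g) * g⁻¹ = u
    group

theorem cj_cj (g h : G) (P : Subgroup G) : cj g (cj h P) = cj (g * h) P := by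
  ext u
  rw [mem_cj, mem_cj, mem_cj]
  have e : h⁻¹ * (g⁻¹ * u * g) * h = (g * h)⁻¹ * u * (g * h) := by group
  rw [e]

theorem cj_one (P : Subgroup G) : cj 1 P = P := by
  ext u
  rw [mem_cj]
  simp

theorem cj_inv_of_eq {g : G} {P Q : Subgroup G} (h : cj g P = Q) : cj g⁻¹ Q = P := by
  rw [← h, cj_cj, inv_mul_cancel, cj_one]

theorem cj_eq_iff {g : G} {X : Subgroup G} : cj g X = X ↔ g ∈ Nz X := by
  rw [Subgroup.mem_normalizer_iff]
  constructor
  · intro h u
    have h1 : g * u * g⁻¹ ∈ cj g X ↔ u ∈ X := by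
      rw [mem_cj]
      have e : g⁻¹ * (g * u * g⁻¹) * g = u := by group
      rw [e]
    rw [h] at h1
    exact h1.symm
  · intro h
    ext u
    rw [mem_cj]
    have h1 := h (g⁻¹ * u * g)
    have e : g * (g⁻¹ * u * g) * g⁻¹ = u := by group
    rw [e] at h1
    exact h1

theorem cj_self {g : G} {P : Subgroup G} (hg : g ∈ P) : cj g P = P := by
  ext u
  rw [mem_cj]
  constructor
  · intro h
    have e : g * (g⁻¹ * u * g) * g⁻¹ = u := by group
    rw [← e]
    exact P.mul_mem (P.mul_mem hg h) (P.inv_mem hg)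
  · intro h
    exact P.mul_mem (P.mul_mem (P.inv_mem hg) h) hg

theorem st_pgroup {p : ℕ} (hΩ : PSet p G Ω) {k : ℕ} (x : Fin (k + 1) → Ω) : IsPGroup p (st G x) := by
  refine (hΩ.pgroup (x 0)).to_le ?_
  intro g hg
  exact mem_st.1 hg 0

/-- points of `FixPt X Ω` -/
def mkF (X : Subgroup G) (y : Ω) (h : X ≤ stabilizer G y) : FixPt X Ω := ⟨y, h⟩

theorem mkF_val (X : Subgroup G) (y : Ω) (h : X ≤ stabilizer G y) : (mkF X y h).1 = y := rfl

/-! ### A8 -/

/-- the stabilizer in `N(X)` of a tuple of `X`-fixed points -/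
theorem map_st_fixPt (X : Subgroup G) {k : ℕ} (x : Fin k → FixPt X Ω) :
    (st ↥(Nz X) x).map (Nz X).subtype = Nz X ⊓ st G (fun i => (x i).1) := by
  ext g
  constructor
  · rintro ⟨n, hn, rfl⟩
    refine ⟨n.2, mem_st.2 fun i => ?_⟩
    have h := mem_st.1 hn i
    exact congrArg Subtype.val h
  · rintro ⟨h1, h2⟩
    refine ⟨⟨g, h1⟩, mem_st.2 fun i => ?_, rfl⟩
    exact Subtype.ext (mem_st.1 h2 i)

/-- A8: the sets `FixPt X Ω` are again `PSet`s -/
theorem pset_fixPt {p : ℕ} (hΩ : PSet p G Ω) (X : Subgroup G) (hX : IsPGroup p X) :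
    PSet p ↥(Nz X) (FixPt X Ω) := by
  constructor
  · intro x
    have h1 : (stabilizer ↥(Nz X) x).map (Nz X).subtype ≤ stabilizer G x.1 := by
      rintro _ ⟨n, hn, rfl⟩
      have h := mem_stabilizer_iff.1 hn
      exact congrArg Subtype.val h
    have h2 : IsPGroup p ((stabilizer ↥(Nz X) x).map (Nz X).subtype) := (hΩ.pgroup x.1).to_le h1
    exact h2.of_equiv (Subgroup.equivMapOfInjective _ _ (Nz X).subtype_injective).symm
  · intro P hP
    have h1 : IsPGroup p (P.map (Nz X).subtype) := hP.map _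
    have h2 : P.map (Nz X).subtype ≤ Nz X := by
      rintro _ ⟨n, -, rfl⟩
      exact n.2
    have h3 : IsPGroup p (P.map (Nz X).subtype ⊔ X : Subgroup G) := h1.to_sup_of_normal_right' hX h2
    obtain ⟨y, hy⟩ := hΩ.exists_fix _ h3
    refine ⟨mkF X y (le_sup_right.trans hy), fun n hn => ?_⟩
    rw [mem_stabilizer_iff]
    apply Subtype.ext
    exact mem_stabilizer_iff.1 (hy (Subgroup.mem_sup_left (Subgroup.mem_map_of_mem _ hn)))

/-! ### A5 -/

/-- a `p`-subgroup whose normalizer in the `p`-group `T` is not larger is equal to `T` -/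
theorem eq_of_normalizer {p : ℕ} [Fact p.Prime] [Finite G] {P T : Subgroup G} (hT : IsPGroup p T) (hPT : P ≤ T)
    (h : ∀ g ∈ T, cj g P = P → g ∈ P) : P = T := by
  by_contra hne
  have hnil : Group.IsNilpotent T := hT.isNilpotent
  have hlt : P.subgroupOf T < ⊤ := by
    rw [lt_top_iff_ne_top]
    intro h1
    rw [Subgroup.subgroupOf_eq_top] at h1
    exact hne (le_antisymm hPT h1)
  have h1 := Group.normalizerCondition_of_isNilpotent (G := T) _ hlt
  obtain ⟨g, hg, hg'⟩ := SetLike.exists_of_lt h1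
  apply hg'
  rw [Subgroup.mem_subgroupOf]
  refine h g g.2 ?_
  rw [cj_eq_iff, Subgroup.mem_normalizer_iff]
  intro u
  rw [Subgroup.mem_normalizer_iff] at hg
  constructor
  · intro hu
    have := (hg ⟨u, hPT hu⟩).1 (Subgroup.mem_subgroupOf.2 hu)
    exact Subgroup.mem_subgroupOf.1 this
  · intro hu
    have huT : u ∈ T := by
      have e : u = (g : G)⁻¹ * ((g : G) * u * (g : G)⁻¹) * g := by group
      rw [e]
      exact T.mul_mem (T.mul_mem (T.inv_mem g.2) (hPT hu)) g.2
    have := (hg ⟨u, huT⟩).2 (Subgroup.mem_subgroupOf.2 hu)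
    exact Subgroup.mem_subgroupOf.1 this

section Local

variable {p : ℕ} [Fact p.Prime] [Finite G] (hΩ : PSet p G Ω) {V : Set (Subgroup G)}
  (hVi : IsInv V) (X : Subgroup G → Subgroup G) (h1 : ∀ P ∈ V, X P ≤ P)
  (h2 : ∀ (g : G), ∀ P ∈ V, X (cj g P) = cj g (X P))
  (h3 : ∀ P ∈ V, ∀ Q ∈ V, P ≤ Q → X P = X Q)

omit [Finite G] in
include h2 in
theorem le_nz {P : Subgroup G} (hP : P ∈ V) : P ≤ Nz (X P) := by
  intro g hg
  rw [← cj_eq_iff, ← h2 g P hP, cj_self hg]

include hΩ h2 in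
/-- (i) -/
theorem st_eq {k : ℕ} {R : Subgroup G} (y : Fin (k + 1) → Ω) (hV : Nz R ⊓ st G y ∈ V)
    (hX : X (Nz R ⊓ st G y) = R) : Nz R ⊓ st G y = st G y := by
  refine eq_of_normalizer (st_pgroup hΩ y) inf_le_right ?_
  intro g hg hgc
  refine ⟨?_, hg⟩
  have h := h2 g _ hV
  rw [hgc, hX] at h
  exact cj_eq_iff.1 h.symm

variable {n : ℕ} {c : (Fin (n + 1) → Ω) → D} (hc : IsCoch V c) (hcc : IsCoc (G := G) V c)

/-- the local collection -/
def VL (V : Set (Subgroup G)) (X : Subgroup G → Subgroup G) (R : Subgroup G) : Set (Subgroup ↥(Nz R)) :=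
  {Q | Q.map (Nz R).subtype ∈ V ∧ X (Q.map (Nz R).subtype) = R}

open Classical in
/-- the local cochain -/
noncomputable def cL {V : Set (Subgroup G)} (X : Subgroup G → Subgroup G) (R : Subgroup G)
    {k : ℕ} (c : (Fin k → Ω) → D) (x : Fin k → FixPt R Ω) : D :=
  if st ↥(Nz R) x ∈ VL V X R then c (fun i => (x i).1) else 0

omit [Finite G] in
theorem map_cj {R : Subgroup G} (g : ↥(Nz R)) (Q : Subgroup ↥(Nz R)) :
    (cj g Q).map (Nz R).subtype = cj (g : G) (Q.map (Nz R).subtype) := by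
  unfold cj
  rw [Subgroup.map_map, Subgroup.map_map]
  rfl

omit [Finite G] in
include hVi h2 in
theorem vL_inv (R : Subgroup G) : IsInv (VL V X R) := by
  rintro g Q ⟨ha, hb⟩
  refine ⟨?_, ?_⟩
  · rw [map_cj]
    exact hVi _ _ ha
  · rw [map_cj, h2 _ _ ha, hb, cj_eq_iff]
    exact g.2

omit [Finite G] in
include hVi h2 hc in
theorem cL_coch (R : Subgroup G) : IsCoch (VL V X R) (cL (V := V) X R c) := by
  constructor
  · intro g x
    unfold cL
    have h4 : st ↥(Nz R) (g • x) ∈ VL V X R ↔ st ↥(Nz R) x ∈ VL V X R := by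
      rw [st_smul]
      constructor
      · intro h
        have := vL_inv hVi X h2 R g⁻¹ _ h
        rwa [cj_cj, inv_mul_cancel, cj_one] at this
      · exact fun h => vL_inv hVi X h2 R g _ h
    by_cases h : st ↥(Nz R) x ∈ VL V X R
    · rw [if_pos h, if_pos (h4.2 h)]
      exact hc.smul (g : G) (fun i => (x i).1)
    · rw [if_neg h, if_neg (fun h' => h (h4.1 h')), smul_zero]
  · intro x hx
    unfold cL
    rw [if_neg hx]

include hΩ h2 h3 hc hcc in
theorem cL_coc (R : Subgroup G) : IsCoc (G := ↥(Nz R)) (VL V X R) (cL (V := V) X R c) := by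
  intro x hx
  have hx' := hx
  obtain ⟨ha, hb⟩ := hx'
  rw [map_st_fixPt] at ha hb
  have hst := st_eq hΩ X h2 (fun i => (x i).1) ha hb
  rw [hst] at ha hb
  have hd := hcc (fun i => (x i).1) ha
  rw [← hd]
  unfold dd
  refine Finset.sum_congr rfl fun i _ => ?_
  congr 1
  unfold cL
  by_cases h : st ↥(Nz R) (fun j => x (i.succAbove j)) ∈ VL V X R
  · rw [if_pos h]
  · rw [if_neg h]
    symm
    apply hc.supp
    intro hV
    apply h
    have hle : st G (fun i => (x i).1) ≤ st G (fun j => (x (i.succAbove j)).1) :=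
      Coef.st_succAbove_le G (fun i => (x i).1) i
    have hXR : X (st G (fun j => (x (i.succAbove j)).1)) = R := by
      rw [← h3 _ ha _ hV hle, hb]
    have hle2 := le_nz X h2 hV
    rw [hXR] at hle2
    have e := map_st_fixPt R (fun j => x (i.succAbove j))
    rw [inf_eq_right.2 hle2] at e
    refine ⟨?_, ?_⟩
    · rw [e]; exact hV
    · rw [e]; exact hXR

end Local

/-- A5 in degree 0 -/
theorem van_of_local_zero {p : ℕ} [Fact p.Prime] [Finite G] (hΩ : PSet p G Ω) {V : Set (Subgroup G)}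
    (hVi : IsInv V) (X : Subgroup G → Subgroup G) (h1 : ∀ P ∈ V, X P ≤ P)
    (h2 : ∀ (g : G), ∀ P ∈ V, X (cj g P) = cj g (X P))
    (h3 : ∀ P ∈ V, ∀ Q ∈ V, P ≤ Q → X P = X Q)
    (h : ∀ P ∈ V, Van ↥(Nz (X P)) (FixPt (X P) Ω) D
      {Q | Q.map (Nz (X P)).subtype ∈ V ∧ X (Q.map (Nz (X P)).subtype) = X P} 0) :
    Van G Ω D V 0 := by
  intro c hc hcc x
  by_cases hx : st G x ∈ V
  · have h4 := h _ hx (cL (V := V) X (X (st G x)) c) (cL_coch hVi X h2 hc _) (cL_coc hΩ X h2 h3 hc hcc _)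
      (fun i => mkF _ (x i) (fun g hg => mem_st.1 (h1 _ hx hg) i))
    unfold cL at h4
    rw [if_pos] at h4
    · exact h4
    · have e := map_st_fixPt (X (st G x)) (fun i => mkF (X (st G x)) (x i) (fun g hg => mem_st.1 (h1 _ hx hg) i))
      change _ = Nz (X (st G x)) ⊓ st G x at e
      rw [inf_eq_right.2 (le_nz X h2 hx)] at e
      refine ⟨?_, ?_⟩
      · rw [e]; exact hx
      · rw [e]
  · exact hc.supp x hx

open Classical in
/-- A5: the local solution, extended by zero -/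
theorem exists_local {p : ℕ} [Fact p.Prime] [Finite G] (hΩ : PSet p G Ω) {V : Set (Subgroup G)}
    (hVi : IsInv V) (X : Subgroup G → Subgroup G) (h1 : ∀ P ∈ V, X P ≤ P)
    (h2 : ∀ (g : G), ∀ P ∈ V, X (cj g P) = cj g (X P))
    (h3 : ∀ P ∈ V, ∀ Q ∈ V, P ≤ Q → X P = X Q) (n : ℕ)
    (h : ∀ P ∈ V, Van ↥(Nz (X P)) (FixPt (X P) Ω) D
      {Q | Q.map (Nz (X P)).subtype ∈ V ∧ X (Q.map (Nz (X P)).subtype) = X P} (n + 1))
    {c : (Fin (n + 2) → Ω) → D} (hc : IsCoch V c) (hcc : IsCoc (G := G) V c) (R : Subgroup G) :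
    ∃ B : (Fin (n + 1) → Ω) → D, (∀ g ∈ Nz R, ∀ y, B (g • y) = g • B y) ∧
      (∀ y, ¬ (st G y ∈ V ∧ X (st G y) = R) → B y = 0) ∧
      ∀ y : Fin (n + 2) → Ω, st G y ∈ V → X (st G y) = R → c y = dd B y := by
  by_cases hR : ∃ P ∈ V, X P = R
  · obtain ⟨P, hP, rfl⟩ := hR
    obtain ⟨b, hb, hcb⟩ := h P hP (cL (V := V) X (X P) c) (cL_coch hVi X h2 hc _) (cL_coc hΩ X h2 h3 hc hcc _)
    refine ⟨fun y => if hy : ∀ i, X P ≤ stabilizer G (y i) then b (fun i => mkF (X P) (y i) (hy i)) else 0, ?_, ?_, ?_⟩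
    · intro g hg y
      by_cases hy : ∀ i, X P ≤ stabilizer G (y i)
      · have hy' : ∀ i, X P ≤ stabilizer G ((g • y) i) := fun i =>
          ((⟨g, hg⟩ : ↥(Nz (X P))) • mkF (X P) (y i) (hy i)).2
        simp only [dif_pos hy, dif_pos hy']
        exact hb.smul (⟨g, hg⟩ : ↥(Nz (X P))) (fun i => mkF (X P) (y i) (hy i))
      · have hy' : ¬ ∀ i, X P ≤ stabilizer G ((g • y) i) := by
          intro hy'
          apply hy
          intro i
          have h5 := ((⟨g, hg⟩⁻¹ : ↥(Nz (X P))) • mkF (X P) ((g • y) i) (hy' i)).2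
          have e : ((⟨g, hg⟩⁻¹ : ↥(Nz (X P))) • mkF (X P) ((g • y) i) (hy' i)).1 = y i := by
            rw [FixPt.coe_smul]
            exact inv_smul_smul g (y i)
          rwa [e] at h5
        simp only [dif_neg hy, dif_neg hy', smul_zero]
    · intro y hy0
      by_cases hy : ∀ i, X P ≤ stabilizer G (y i)
      · simp only [dif_pos hy]
        apply hb.supp
        rintro ⟨ha, ha'⟩
        rw [map_st_fixPt] at ha ha'
        have hst := st_eq hΩ X h2 y ha ha'
        change Nz (X P) ⊓ st G y ∈ V at ha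
        change X (Nz (X P) ⊓ st G y) = X P at ha'
        rw [hst] at ha ha'
        exact hy0 ⟨ha, ha'⟩
      · simp only [dif_neg hy]
    · intro y hyV hyX
      have hy : ∀ i, X P ≤ stabilizer G (y i) := fun i g hg => mem_st.1 (h1 _ hyV (hyX ▸ hg)) i
      have e := map_st_fixPt (X P) (fun i => mkF (X P) (y i) (hy i))
      change _ = Nz (X P) ⊓ st G y at e
      have hle := le_nz X h2 hyV
      rw [hyX] at hle
      rw [inf_eq_right.2 hle] at e
      have hmem : st ↥(Nz (X P)) (fun i => mkF (X P) (y i) (hy i)) ∈ VL V X (X P) := by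
        refine ⟨?_, ?_⟩
        · rw [e]; exact hyV
        · rw [e]; exact hyX
      have h5 := hcb (fun i => mkF (X P) (y i) (hy i)) hmem
      unfold cL at h5
      rw [if_pos hmem] at h5
      change c y = _ at h5
      rw [h5]
      unfold dd
      refine Finset.sum_congr rfl fun i _ => ?_
      congr 1
      simp only [dif_pos (fun j => hy (i.succAbove j))]
  · refine ⟨fun _ => 0, fun g _ y => (smul_zero g).symm, fun _ _ => rfl, fun y hyV hyX => ?_⟩
    exact absurd ⟨_, hyV, hyX⟩ hR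

/-- class representatives -/
theorem exists_rep (G : Type u) [Group G] : ∃ (rep : Subgroup G → Subgroup G) (t : Subgroup G → G),
    (∀ A, cj (t A) (rep A) = A) ∧ ∀ (g : G) A, rep (cj g A) = rep A := by
  let r : Setoid (Subgroup G) :=
    { r := fun A B => ∃ g : G, cj g A = B
      iseqv := ⟨fun A => ⟨1, cj_one A⟩, fun {A B} ⟨g, hg⟩ => ⟨g⁻¹, cj_inv_of_eq hg⟩,
        fun {A B C} ⟨g, hg⟩ ⟨h, hh⟩ => ⟨h * g, by rw [← cj_cj, hg, hh]⟩⟩ }
  have h0 : ∀ A : Subgroup G, ∃ t : G, cj t (Quotient.mk r A).out = A := fun A => Quotient.mk_out (s := r) A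
  choose t ht using h0
  refine ⟨fun A => (Quotient.mk r A).out, t, ht, fun g A => ?_⟩
  have h4 : Quotient.mk r (cj g A) = Quotient.mk r A :=
    Quotient.sound (s := r) ⟨g⁻¹, by rw [cj_cj, inv_mul_cancel, cj_one]⟩
  change (Quotient.mk r (cj g A)).out = (Quotient.mk r A).out
  rw [h4]

/-- A5: localization -/
theorem van_of_local {p : ℕ} [Fact p.Prime] [Finite G] (hΩ : PSet p G Ω) {V : Set (Subgroup G)}
    (hVi : IsInv V) (X : Subgroup G → Subgroup G) (h1 : ∀ P ∈ V, X P ≤ P)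
    (h2 : ∀ (g : G), ∀ P ∈ V, X (cj g P) = cj g (X P))
    (h3 : ∀ P ∈ V, ∀ Q ∈ V, P ≤ Q → X P = X Q) (n : ℕ)
    (h : ∀ P ∈ V, Van ↥(Nz (X P)) (FixPt (X P) Ω) D
      {Q | Q.map (Nz (X P)).subtype ∈ V ∧ X (Q.map (Nz (X P)).subtype) = X P} n) :
    Van G Ω D V n := by
  classical
  match n, h with
  | 0, h => exact van_of_local_zero hΩ hVi X h1 h2 h3 h
  | n + 1, h =>
    intro c hc hcc
    have hloc := exists_local hΩ hVi X h1 h2 h3 n h hc hcc
    choose B hBs hB0 hBd using hloc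
    obtain ⟨rep, t, ht, hrep⟩ := exists_rep G
    have hVi' : ∀ (g : G) (P : Subgroup G), cj g P ∈ V → P ∈ V := by
      intro g P hP
      have := hVi g⁻¹ _ hP
      rwa [cj_cj, inv_mul_cancel, cj_one] at this
    refine ⟨fun x => if st G x ∈ V then t (X (st G x)) • B (rep (X (st G x))) ((t (X (st G x)))⁻¹ • x) else 0,
      ⟨?_, ?_⟩, ?_⟩
    · intro g x
      by_cases hx : st G x ∈ V
      · have hx' : st G (g • x) ∈ V := by rw [st_smul]; exact hVi g _ hx
        simp only [if_pos hx, if_pos hx']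
        have hXg : X (st G (g • x)) = cj g (X (st G x)) := by rw [st_smul, h2 g _ hx]
        rw [hXg, hrep]
        set A := X (st G x) with hA
        have hn : (t (cj g A))⁻¹ * g * t A ∈ Nz (rep A) := by
          rw [← cj_eq_iff, ← cj_cj, ← cj_cj, ht A]
          have h4 := ht (cj g A)
          rw [hrep] at h4
          exact cj_inv_of_eq h4
        have h5 := hBs (rep A) _ hn ((t A)⁻¹ • x)
        have e1 : ((t (cj g A))⁻¹ * g * t A) • (t A)⁻¹ • x = (t (cj g A))⁻¹ • g • x := by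
          rw [smul_smul, smul_smul]
          congr 1
          group
        rw [e1] at h5
        rw [h5, smul_smul, smul_smul]
        congr 1
        group
      · have hx' : st G (g • x) ∉ V := by
          rw [st_smul]
          exact fun h' => hx (hVi' g _ h')
        simp only [if_neg hx, if_neg hx', smul_zero]
    · intro x hx
      simp only [if_neg hx]
    · intro x hx
      set A := X (st G x) with hA
      have hst : st G ((t A)⁻¹ • x) = cj (t A)⁻¹ (st G x) := st_smul _ _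
      have hV1 : st G ((t A)⁻¹ • x) ∈ V := by rw [hst]; exact hVi _ _ hx
      have hX1 : X (st G ((t A)⁻¹ • x)) = rep A := by
        rw [hst, h2 _ _ hx]
        exact cj_inv_of_eq (ht A)
      have h4 := hBd (rep A) ((t A)⁻¹ • x) hV1 hX1
      have h5 := hc.smul (t A) ((t A)⁻¹ • x)
      rw [smul_inv_smul] at h5
      rw [h5, h4]
      unfold dd
      rw [Finset.smul_sum]
      refine Finset.sum_congr rfl fun i _ => ?_
      rw [smul_comm]
      congr 1
      have hle : st G x ≤ st G (fun j => x (i.succAbove j)) := Coef.st_succAbove_le G x i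
      have e2 : (fun j => ((t A)⁻¹ • x) (i.succAbove j)) = (t A)⁻¹ • (fun j => x (i.succAbove j)) := rfl
      rw [e2]
      beta_reduce
      by_cases hy : st G (fun j => x (i.succAbove j)) ∈ V
      · rw [if_pos hy, ← h3 _ hx _ hy hle]
      · rw [if_neg hy, hB0, smul_zero]
        rintro ⟨hV2, -⟩
        rw [st_smul] at hV2
        exact hy (hVi' _ _ hV2)

end Cfsg.Agent.H95.Lim
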